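import Groth.Agent.Fixpt.H628.Unip
import Mathlib.CategoryTheory.Linear.Basic
import Mathlib.LinearAlgebra.FiniteDimensional.Lemmas
import Mathlib.LinearAlgebra.Dimension.LinearMap
import Mathlib.CategoryTheory.Abelian.DiagramLemmas.Four

/-!
# Morphisms of unipotent objects

`C` abelian, `e` an object all of whose nonzero endomorphisms are isomorphisms.  Kernels and cokernels of
morphisms of unipotent objects are unipotent; if `C` is `Λ`-linear with `End e = Λ`, a unipotent object `F` of
length `n` has `dim Hom(F, e) ≤ n`, and linearly independent morphisms `φ i : F ⟶ e`, `i < q`, have a joint kernel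
which is unipotent of length `n - q` and are jointly epimorphic.
-/

set_option autoImplicit false

open CategoryTheory CategoryTheory.Limits

universe v u w

namespace Groth.Agent.Fixpt.H628.Unip

section

variable {C : Type u} [Category.{v} C] [Abelian C] {e : C}

/-- An epimorphism from a unipotent object to `e`, or zero. -/
theorem Uni.hom_unit (he : ∀ f : e ⟶ e, f = 0 ∨ IsIso f) :
    ∀ (n : ℕ) (F : C), Uni e n F → ∀ φ : F ⟶ e,
      φ = 0 ∨ (Epi φ ∧ ∃ m, n = m + 1 ∧ Uni e m (kernel φ)) := by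
  intro n
  induction n with
  | zero =>
    intro F hF φ
    exact Or.inl (IsZero.eq_of_src hF _ _)
  | succ n ih =>
    intro F hF φ
    obtain ⟨p, hp, hK⟩ := hF
    rcases ih (kernel p) hK (kernel.ι p ≫ φ) with h0 | ⟨hepi, m, rfl, hm⟩
    · -- `φ` factors through `p`
      let ψ : e ⟶ e := Abelian.epiDesc p φ h0
      have hψ : p ≫ ψ = φ := Abelian.comp_epiDesc p φ h0
      rcases he ψ with h1 | h1
      · left
        rw [← hψ, h1, comp_zero]
      · right
        refine ⟨by rw [← hψ]; exact epi_comp _ _, n, rfl, ?_⟩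
        refine Uni.of_iso ?_ hK
        exact (kernelCompMono p ψ).symm ≪≫ kernelIsoOfEq hψ
    · right
      have hφ : Epi φ := epi_of_epi (kernel.ι p) φ
      refine ⟨hφ, m + 1, rfl, ?_⟩
      -- `0 → ker (φ|K) → ker φ → e → 0`
      let a : kernel (kernel.ι p ≫ φ) ⟶ kernel φ :=
        kernel.lift φ (kernel.ι (kernel.ι p ≫ φ) ≫ kernel.ι p) (by
          rw [Category.assoc, kernel.condition])
      have ha : a ≫ kernel.ι φ = kernel.ι (kernel.ι p ≫ φ) ≫ kernel.ι p := kernel.lift_ι _ _ _
      let b : kernel φ ⟶ e := kernel.ι φ ≫ p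
      have hab : a ≫ b = 0 := by
        change a ≫ kernel.ι φ ≫ p = 0
        rw [← Category.assoc, ha, Category.assoc, kernel.condition, comp_zero]
      have hmono : Mono a := by
        have : Mono (a ≫ kernel.ι φ) := by
          rw [ha]
          exact mono_comp _ _
        exact mono_of_mono a (kernel.ι φ)
      have hex : (ShortComplex.mk a b hab).Exact := by
        rw [ShortComplex.exact_iff_exact_up_to_refinements]
        intro A x hx
        have hx' : (x ≫ kernel.ι φ) ≫ p = 0 := by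
          rw [Category.assoc]
          exact hx
        let y : A ⟶ kernel p := kernel.lift p (x ≫ kernel.ι φ) hx'
        have hy : y ≫ kernel.ι p = x ≫ kernel.ι φ := kernel.lift_ι _ _ _
        have hy' : y ≫ kernel.ι p ≫ φ = 0 := by
          rw [← Category.assoc, hy, Category.assoc, kernel.condition, comp_zero]
        refine ⟨A, 𝟙 A, inferInstance, kernel.lift _ y hy', ?_⟩
        rw [← cancel_mono (kernel.ι φ)]
        change (𝟙 A ≫ x) ≫ kernel.ι φ = (kernel.lift _ y hy' ≫ a) ≫ kernel.ι φ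
        rw [Category.assoc, Category.assoc, ha, ← Category.assoc (kernel.lift _ y hy'), kernel.lift_ι, hy,
          Category.id_comp]
      have hb : Epi b := by
        rw [epi_iff_surjective_up_to_refinements]
        intro A x
        obtain ⟨A₁, π₁, _, y, hy⟩ := surjective_up_to_refinements_of_epi p x
        obtain ⟨A₂, π₂, _, z, hz⟩ := surjective_up_to_refinements_of_epi (kernel.ι p ≫ φ) (y ≫ φ)
        have h3 : (π₂ ≫ y - z ≫ kernel.ι p) ≫ φ = 0 := by
          rw [Preadditive.sub_comp, Category.assoc, Category.assoc, hz, sub_self]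
        refine ⟨A₂, π₂ ≫ π₁, epi_comp _ _, kernel.lift φ _ h3, ?_⟩
        change (π₂ ≫ π₁) ≫ x = kernel.lift φ _ h3 ≫ kernel.ι φ ≫ p
        rw [← Category.assoc (kernel.lift φ _ h3), kernel.lift_ι, Preadditive.sub_comp, Category.assoc,
          Category.assoc, Category.assoc, kernel.condition, comp_zero, sub_zero, hy]
      have hS : (ShortComplex.mk a b hab).ShortExact := { exact := hex, mono_f := hmono, epi_g := hb }
      exact Uni.of_shortExact_epi hS hm (Iso.refl e)

end

section linear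

variable {C : Type u} [Category.{v} C] [Abelian C] {Λ : Type w} [Field Λ] [Linear Λ C] {e : C}

theorem isIso_or_zero (he : ∀ f : e ⟶ e, ∃ r : Λ, f = r • 𝟙 e) (f : e ⟶ e) : f = 0 ∨ IsIso f := by
  obtain ⟨r, rfl⟩ := he f
  by_cases hr : r = 0
  · left
    rw [hr, zero_smul]
  · right
    refine ⟨r⁻¹ • 𝟙 e, ?_, ?_⟩
    · rw [Linear.smul_comp, Linear.comp_smul, Category.comp_id, smul_smul, mul_inv_cancel₀ hr, one_smul]
    · rw [Linear.smul_comp, Linear.comp_smul, Category.comp_id, smul_smul, inv_mul_cancel₀ hr, one_smul]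

/-- The dimension of `Hom(F, e)`. -/
theorem Uni.finite_hom (he : ∀ f : e ⟶ e, ∃ r : Λ, f = r • 𝟙 e) :
    ∀ (n : ℕ) (F : C), Uni e n F → Module.Finite Λ (F ⟶ e) ∧ Module.finrank Λ (F ⟶ e) ≤ n := by
  intro n
  induction n with
  | zero =>
    intro F hF
    have : Subsingleton (F ⟶ e) := ⟨fun a b => IsZero.eq_of_src hF a b⟩
    exact ⟨inferInstance, (Module.finrank_zero_of_subsingleton).le⟩
  | succ n ih =>
    intro F hF
    obtain ⟨p, hp, hK⟩ := hF
    obtain ⟨h1, h2⟩ := ih _ hK
    let ρ : (F ⟶ e) →ₗ[Λ] (kernel p ⟶ e) := Linear.leftComp Λ e (kernel.ι p)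
    have hker : LinearMap.ker ρ ≤ Submodule.span Λ {p} := by
      intro φ hφ
      have hφ' : kernel.ι p ≫ φ = 0 := hφ
      obtain ⟨r, hr⟩ := he (Abelian.epiDesc p φ hφ')
      have h3 : p ≫ Abelian.epiDesc p φ hφ' = φ := Abelian.comp_epiDesc p φ hφ'
      rw [hr, Linear.comp_smul, Category.comp_id] at h3
      exact Submodule.mem_span_singleton.2 ⟨r, h3⟩
    have hfk : Module.Finite Λ (LinearMap.ker ρ) :=
      Module.Finite.of_injective (Submodule.inclusion hker) (Submodule.inclusion_injective hker)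
    have hfr : Module.Finite Λ (LinearMap.range ρ) := inferInstance
    have hfq : Module.Finite Λ ((F ⟶ e) ⧸ LinearMap.ker ρ) :=
      Module.Finite.equiv ρ.quotKerEquivRange.symm
    have hfin : Module.Finite Λ (F ⟶ e) := Module.Finite.of_submodule_quotient (LinearMap.ker ρ)
    refine ⟨hfin, ?_⟩
    have h4 := LinearMap.finrank_range_add_finrank_ker ρ
    have h5 : Module.finrank Λ (LinearMap.ker ρ) ≤ 1 :=
      (Submodule.finrank_mono hker).trans
        ((finrank_span_le_card ({p} : Set (F ⟶ e))).trans (by simp))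
    have h6 : Module.finrank Λ (LinearMap.range ρ) ≤ n := (Submodule.finrank_le _).trans h2
    omega

/-- The joint kernel of linearly independent morphisms to `e`, auxiliary form. -/
theorem Uni.coinv_aux (he : ∀ f : e ⟶ e, ∃ r : Λ, f = r • 𝟙 e) :
    ∀ (q n : ℕ) (F : C), Uni e n F → ∀ φ : Fin q → (F ⟶ e), LinearIndependent Λ φ →
      ∃ (m : ℕ) (K : C) (ι : K ⟶ F), n = m + q ∧ Uni e m K ∧ Mono ι ∧ (∀ i, ι ≫ φ i = 0) ∧
        (∀ (A : C) (x : A ⟶ F), (∀ i, x ≫ φ i = 0) → ∃ y : A ⟶ K, y ≫ ι = x) ∧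
        (∀ (A : C) (x : Fin q → (A ⟶ e)), ∃ (A' : C) (π : A' ⟶ A) (_ : Epi π) (y : A' ⟶ F),
          ∀ i, π ≫ x i = y ≫ φ i) := by
  intro q
  induction q with
  | zero =>
    intro n F hF φ _
    exact ⟨n, F, 𝟙 F, rfl, hF, inferInstance, fun i => i.elim0, fun A x _ => ⟨x, Category.comp_id x⟩,
      fun A x => ⟨A, 𝟙 A, inferInstance, 0, fun i => i.elim0⟩⟩
  | succ q ih =>
    intro n F hF φ hφ
    have h0 : φ 0 ≠ 0 := hφ.ne_zero 0
    obtain ⟨hepi, m₀, rfl, hK⟩ := (Uni.hom_unit (isIso_or_zero he) n F hF (φ 0)).resolve_left h0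
    have hli : LinearIndependent Λ (fun i : Fin q => kernel.ι (φ 0) ≫ φ i.succ) := by
      rw [Fintype.linearIndependent_iff]
      intro a ha i
      have h1 : kernel.ι (φ 0) ≫ (∑ i, a i • φ i.succ) = 0 := by
        rw [Preadditive.comp_sum]
        refine Eq.trans (Finset.sum_congr rfl fun i _ => ?_) ha
        rw [Linear.comp_smul]
      obtain ⟨r, hr⟩ := he (Abelian.epiDesc (φ 0) _ h1)
      have h2 : φ 0 ≫ Abelian.epiDesc (φ 0) _ h1 = ∑ i, a i • φ i.succ := Abelian.comp_epiDesc _ _ h1
      rw [hr, Linear.comp_smul, Category.comp_id] at h2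
      have h3 := Fintype.linearIndependent_iff.1 hφ (Fin.cons (-r) a) (by
        rw [Fin.sum_univ_succ]
        simp only [Fin.cons_zero, Fin.cons_succ]
        rw [← h2, neg_smul, neg_add_cancel])
      have h4 := h3 i.succ
      simpa using h4
    obtain ⟨m, K, ι, h1, h2, h3, h4, h5, h6⟩ := ih m₀ (kernel (φ 0)) hK _ hli
    refine ⟨m, K, ι ≫ kernel.ι (φ 0), by omega, h2, mono_comp _ _, ?_, ?_, ?_⟩
    · intro i
      refine Fin.cases ?_ (fun i => ?_) i
      · rw [Category.assoc, kernel.condition, comp_zero]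
      · rw [Category.assoc]
        exact h4 i
    · intro A x hx
      obtain ⟨y, hy⟩ := h5 A (kernel.lift (φ 0) x (hx 0)) (fun i => by
        rw [← Category.assoc, kernel.lift_ι]
        exact hx i.succ)
      refine ⟨y, ?_⟩
      rw [← Category.assoc, hy, kernel.lift_ι]
    · intro A x
      obtain ⟨A₁, π₁, _, y, hy⟩ := surjective_up_to_refinements_of_epi (φ 0) (x 0)
      obtain ⟨A₂, π₂, _, z, hz⟩ := h6 A₁ (fun i => π₁ ≫ x i.succ - y ≫ φ i.succ)
      refine ⟨A₂, π₂ ≫ π₁, epi_comp _ _, π₂ ≫ y + z ≫ kernel.ι (φ 0), fun i => ?_⟩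
      refine Fin.cases ?_ (fun i => ?_) i
      · rw [Preadditive.add_comp, Category.assoc, Category.assoc, Category.assoc, kernel.condition,
          comp_zero, add_zero, hy]
      · have h7 := hz i
        simp only [Preadditive.comp_sub] at h7
        rw [Preadditive.add_comp, Category.assoc, Category.assoc, Category.assoc, ← h7]
        abel

attribute [local instance] Abelian.hasFiniteBiproducts in
/-- Linearly independent morphisms `F ⟶ e` from a unipotent object are jointly epimorphic and their joint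
kernel is unipotent. -/
theorem Uni.coinv (he : ∀ f : e ⟶ e, ∃ r : Λ, f = r • 𝟙 e) {q n : ℕ} {F : C} (hF : Uni e n F)
    (φ : Fin q → (F ⟶ e)) (hφ : LinearIndependent Λ φ) :
    ∃ m : ℕ, n = m + q ∧ Epi (biproduct.lift φ) ∧ Uni e m (kernel (biproduct.lift φ)) := by
  obtain ⟨m, K, ι, h1, h2, h3, h4, h5, h6⟩ := Uni.coinv_aux he q n F hF φ hφ
  refine ⟨m, h1, ?_, ?_⟩
  · rw [epi_iff_surjective_up_to_refinements]
    intro A x
    obtain ⟨A', π, hπ, y, hy⟩ := h6 A (fun i => x ≫ biproduct.π _ i)
    refine ⟨A', π, hπ, y, ?_⟩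
    apply biproduct.hom_ext
    intro i
    rw [Category.assoc, Category.assoc, biproduct.lift_π]
    exact hy i
  · have hι : ι ≫ biproduct.lift φ = 0 := by
      apply biproduct.hom_ext
      intro i
      rw [Category.assoc, biproduct.lift_π, zero_comp]
      exact h4 i
    obtain ⟨y, hy⟩ := h5 _ (kernel.ι (biproduct.lift φ)) (fun i => by
      rw [← biproduct.lift_π (f := fun _ : Fin q => e) φ i, ← Category.assoc, kernel.condition, zero_comp])
    refine Uni.of_iso ⟨kernel.lift _ ι hι, y, ?_, ?_⟩ h2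
    · rw [← cancel_mono ι, Category.assoc, hy, kernel.lift_ι, Category.id_comp]
    · rw [← cancel_mono (kernel.ι (biproduct.lift φ)), Category.assoc, kernel.lift_ι, hy, Category.id_comp]

/-- A nonzero unipotent object has a nonzero morphism to `e`. -/
theorem Uni.exists_ne_zero (he : (𝟙 e : e ⟶ e) ≠ 0) {n : ℕ} {F : C} (hF : Uni e (n + 1) F) :
    ∃ φ : F ⟶ e, φ ≠ 0 := by
  obtain ⟨p, hp, -⟩ := hF
  refine ⟨p, fun h => he ?_⟩
  rw [← cancel_epi p, h, zero_comp, zero_comp]

end linear

end Groth.Agent.Fixpt.H628.Unip
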